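import Mathlib.CategoryTheory.Sites.RegularEpi
import Mathlib.CategoryTheory.Sites.LocallySurjective
import Mathlib.CategoryTheory.EquivalenceRelation
import Mathlib.CategoryTheory.Types.Epimorphisms
import Mathlib.CategoryTheory.Limits.Types.Coequalizers
import Mathlib.CategoryTheory.MorphismProperty.Limits
import Mathlib.CategoryTheory.Functor.RegularEpi

/-!
# Exactness of categories of sheaves of sets
-/

set_option autoImplicit false

universe w v v₁ u u₁

open CategoryTheory CategoryTheory.Limits Opposite

namespace Groth.Agent.ShfCatLib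

variable {C : Type u₁} [Category.{v₁} C]

/-- Epimorphisms are universal effective epimorphisms if every epimorphism is effective and they
are stable under base change. -/
theorem universally_effectiveEpi {E : Type u} [Category.{v} E] [IsRegularEpiCategory E]
    [HasPullbacks E] [(MorphismProperty.epimorphisms E).IsStableUnderBaseChange] {X Y : E} (f : X ⟶ Y)
    [Epi f] :
    MorphismProperty.universally (fun (A B : E) (p : A ⟶ B) => EffectiveEpi p) f := by
  intro X' Y' i₁ i₂ f' sq
  have : Epi f' := MorphismProperty.of_isPullback (P := MorphismProperty.epimorphisms E) sq.flip ‹Epi f›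
  have := IsRegularEpiCategory.regularEpiOfEpi f'
  exact (isRegularEpi_iff_effectiveEpi f').1 this

/-- Epimorphisms of presheaves of sets are stable under base change. -/
instance : (MorphismProperty.epimorphisms (Cᵒᵖ ⥤ Type w)).IsStableUnderBaseChange where
  of_isPullback {_ _ _ _} b r t l sq hr := by
    simp only [MorphismProperty.epimorphisms.iff, NatTrans.epi_iff_epi_app] at hr ⊢
    intro U
    exact MorphismProperty.of_isPullback (P := MorphismProperty.epimorphisms (Type w))
      (sq.map ((evaluation Cᵒᵖ (Type w)).obj U)) (hr U)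

variable (J : GrothendieckTopology C)

/-- Epimorphisms of sheaves of sets are stable under base change. -/
instance isStableUnderBaseChange_epimorphisms_sheaf [HasSheafify J (Type w)] :
    (MorphismProperty.epimorphisms (Sheaf J (Type w))).IsStableUnderBaseChange where
  of_isPullback {_ _ _ _} b r t l sq hr := by
    simp only [MorphismProperty.epimorphisms.iff, ← Sheaf.isLocallySurjective_iff_epi] at hr ⊢
    refine ⟨fun {U} x => J.superset_covering ?_ (Presheaf.imageSieve_mem J r.hom (b.hom.app _ x))⟩
    rintro V g ⟨y, hy⟩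
    have hsq := (sq.map (sheafToPresheaf J (Type w))).map ((evaluation Cᵒᵖ (Type w)).obj (op V))
    obtain ⟨z, _, hz⟩ := Types.exists_of_isPullback hsq y (_) (hy.trans (NatTrans.naturality_apply b.hom g.op x).symm)
    exact ⟨z, hz⟩

section Presheaf

variable {R X : Cᵒᵖ ⥤ Type w} {p₁ p₂ : R ⟶ X}

/-- The pairs of elements of `R` with the same images. -/
def samePairs (p₁ p₂ : R ⟶ X) : Cᵒᵖ ⥤ Type w where
  obj U := {r : R.obj U × R.obj U // p₁.app U r.1 = p₁.app U r.2 ∧ p₂.app U r.1 = p₂.app U r.2}
  map g := TypeCat.ofHom fun r => ⟨(R.map g r.1.1, R.map g r.1.2),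
    by rw [NatTrans.naturality_apply, NatTrans.naturality_apply, r.2.1],
    by rw [NatTrans.naturality_apply, NatTrans.naturality_apply, r.2.2]⟩
  map_id U := by ext r <;> simp
  map_comp g h := by ext r <;> simp

/-- A jointly monic pair is jointly injective at every object. -/
lemma jointly_injective [JointlyMono₂ p₁ p₂] (U : Cᵒᵖ) {r r' : R.obj U} (h₁ : p₁.app U r = p₁.app U r')
    (h₂ : p₂.app U r = p₂.app U r') : r = r' := by
  let a : samePairs p₁ p₂ ⟶ R := { app := fun V => TypeCat.ofHom fun q => q.1.1 }
  let b : samePairs p₁ p₂ ⟶ R := { app := fun V => TypeCat.ofHom fun q => q.1.2 }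
  have hab : a = b := JointlyMono₂.right_cancellation (p₁ := p₁) (p₂ := p₂) a b
    (by ext V q; exact q.2.1) (by ext V q; exact q.2.2)
  exact congrArg (fun t : samePairs p₁ p₂ ⟶ R => t.app U ⟨(r, r'), h₁, h₂⟩) hab

lemma jointlyMono₂_app [JointlyMono₂ p₁ p₂] (U : Cᵒᵖ) :
    JointlyMono₂ (p₁.app U) (p₂.app U) where
  right_cancellation A a b h₁ h₂ := by
    ext y
    exact jointly_injective U (congr($h₁ y)) (congr($h₂ y))

/-- An equivalence relation is an equivalence relation at every object. -/
lemma equivalence_app (e : EquivalenceRelation p₁ p₂) (U : Cᵒᵖ) :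
    Equivalence (TypeCat.Rel.ofPair (p₁.app U) (p₂.app U)) := by
  let F := (evaluation Cᵒᵖ (Type w)).obj U
  have := e.toReflexiveRelation.toJointlyMono₂
  have : JointlyMono₂ (F.map p₁) (F.map p₂) := jointlyMono₂_app (p₁ := p₁) (p₂ := p₂) U
  exact
    { refl := (TypeCat.refl_of_reflexiveRelation (e.toReflexiveRelation.map F)).refl
      symm := (TypeCat.symm_of_symmetricRelation (e.toSymmetricRelation.map F)).symm _ _
      trans := (TypeCat.isTrans_of_transitiveRelation (e.toTransitiveRelation.map F)).trans _ _ _ }

/-- The quotient map identifies exactly the related elements. -/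
lemma exists_of_coequalizer_eq (e : EquivalenceRelation p₁ p₂) (U : Cᵒᵖ) {x y : X.obj U}
    (h : (coequalizer.π p₁ p₂).app U x = (coequalizer.π p₁ p₂).app U y) :
    ∃ r : R.obj U, p₁.app U r = x ∧ p₂.app U r = y := by
  let F := (evaluation Cᵒᵖ (Type w)).obj U
  have hc : IsColimit (Cofork.ofπ (F.map (coequalizer.π p₁ p₂))
      (show F.map p₁ ≫ _ = F.map p₂ ≫ _ by rw [← F.map_comp, ← F.map_comp, coequalizer.condition])) :=
    isColimitCoforkMapOfIsColimit F _ (coequalizerIsCoequalizer p₁ p₂)
  have hrel := equivalence_app e U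
  let S : Set (X.obj U) := {z | TypeCat.Rel.ofPair (p₁.app U) (p₂.app U) x z}
  have hS : (p₁.app U) ⁻¹' S = (p₂.app U) ⁻¹' S := by
    ext r
    exact ⟨fun h₁ => hrel.trans h₁ ⟨r, rfl, rfl⟩, fun h₂ => hrel.trans h₂ (hrel.symm ⟨r, rfl, rfl⟩)⟩
  have hy : y ∈ (F.map (coequalizer.π p₁ p₂)) ⁻¹' ((F.map (coequalizer.π p₁ p₂)) '' S) := ⟨x, hrel.refl x, h⟩
  rw [Types.coequalizer_preimage_image_eq_of_preimage_eq _ _ _ _ hc S hS] at hy
  exact hy

lemma isKernelPair_coequalizer (e : EquivalenceRelation p₁ p₂) :
    IsKernelPair (coequalizer.π p₁ p₂) p₁ p₂ := by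
  have := e.toReflexiveRelation.toJointlyMono₂
  refine IsPullback.of_forall_isPullback_app fun U => (Types.isPullback_iff _ _ _ _).2 ⟨?_, ?_, ?_⟩
  · exact congr($(coequalizer.condition p₁ p₂).app U)
  · exact fun r r' h => jointly_injective U h.1 h.2
  · exact fun x y h => exists_of_coequalizer_eq e U h

lemma isPushout_coequalizer {E : Type u} [Category.{v} E] {R X : E} {p₁ p₂ : R ⟶ X} [HasCoequalizer p₁ p₂]
    (e : ReflexiveRelation p₁ p₂) :
    IsPushout p₁ p₂ (coequalizer.π p₁ p₂) (coequalizer.π p₁ p₂) := by
  refine IsPushout.of_isColimit' ⟨coequalizer.condition p₁ p₂⟩ ?_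
  have key : ∀ s : PushoutCocone p₁ p₂, s.inl = s.inr := fun s => by
    have := congrArg (e.r ≫ ·) s.condition
    simpa using this
  exact PushoutCocone.IsColimit.mk _ (fun s => coequalizer.desc s.inl (by conv_rhs => rw [key s]
                                                                          exact s.condition))
    (fun s => coequalizer.π_desc _ _) (fun s => (coequalizer.π_desc _ _).trans (key s))
    (fun s m h₁ _ => coequalizer.hom_ext (h₁.trans (coequalizer.π_desc _ _).symm))

/-- Equivalence relations of presheaves of sets are effective. -/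
noncomputable def presheafEffective (e : EquivalenceRelation p₁ p₂) : EffectiveEquivalenceRelation p₁ p₂ where
  toEquivalenceRelation := e
  B := coequalizer p₁ p₂
  π := coequalizer.π p₁ p₂
  isKernelPair := isKernelPair_coequalizer e
  isPushout := isPushout_coequalizer e.toReflexiveRelation

end Presheaf

section Sheaf

variable {J} [HasSheafify J (Type w)] {R X : Sheaf J (Type w)} {p₁ p₂ : R ⟶ X}

lemma jointlyMono₂_hom [JointlyMono₂ p₁ p₂] : JointlyMono₂ p₁.hom p₂.hom where
  right_cancellation A a b h₁ h₂ := by
    let adj := sheafificationAdjunction J (Type w)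
    apply (adj.homEquiv A R).symm.injective
    apply JointlyMono₂.right_cancellation (p₁ := p₁) (p₂ := p₂)
    · rw [← adj.homEquiv_naturality_right_symm, ← adj.homEquiv_naturality_right_symm]
      exact congrArg _ h₁
    · rw [← adj.homEquiv_naturality_right_symm, ← adj.homEquiv_naturality_right_symm]
      exact congrArg _ h₂

/-- The underlying relation of presheaves. -/
noncomputable def underlying (e : EquivalenceRelation p₁ p₂) : EquivalenceRelation p₁.hom p₂.hom :=
  haveI := e.toReflexiveRelation.toJointlyMono₂
  haveI : JointlyMono₂ ((sheafToPresheaf J (Type w)).map p₁) ((sheafToPresheaf J (Type w)).map p₂) :=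
    jointlyMono₂_hom (p₁ := p₁) (p₂ := p₂)
  { e.toReflexiveRelation.map (sheafToPresheaf J (Type w)),
    e.toSymmetricRelation.map (sheafToPresheaf J (Type w)),
    e.toTransitiveRelation.map (sheafToPresheaf J (Type w)) with }

variable (e : EquivalenceRelation p₁ p₂)

/-- The quotient sheaf. -/
noncomputable abbrev quot : Sheaf J (Type w) := (presheafToSheaf J (Type w)).obj (coequalizer p₁.hom p₂.hom)

/-- The quotient map. -/
noncomputable abbrev quotπ : X ⟶ quot (p₁ := p₁) (p₂ := p₂) :=
  inv ((sheafificationAdjunction J (Type w)).counit.app X) ≫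
    (presheafToSheaf J (Type w)).map (coequalizer.π p₁.hom p₂.hom)

/-- Equivalence relations of sheaves of sets are effective. -/
noncomputable def sheafEffective : EffectiveEquivalenceRelation p₁ p₂ where
  toEquivalenceRelation := e
  B := quot (p₁ := p₁) (p₂ := p₂)
  π := quotπ
  isKernelPair := by
    let adj := sheafificationAdjunction J (Type w)
    refine IsPullback.of_iso ((isKernelPair_coequalizer (underlying e)).map (presheafToSheaf J (Type w)))
      (asIso (adj.counit.app R)) (asIso (adj.counit.app X)) (asIso (adj.counit.app X)) (Iso.refl _)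
      ?_ ?_ ?_ ?_
    · exact adj.counit.naturality p₁
    · exact adj.counit.naturality p₂
    · exact ((Category.comp_id _).trans ((IsIso.hom_inv_id_assoc _ _).symm))
    · exact ((Category.comp_id _).trans ((IsIso.hom_inv_id_assoc _ _).symm))
  isPushout := by
    let adj := sheafificationAdjunction J (Type w)
    refine IsPushout.of_iso ((isPushout_coequalizer (underlying e).toReflexiveRelation).map (presheafToSheaf J (Type w)))
      (asIso (adj.counit.app R)) (asIso (adj.counit.app X)) (asIso (adj.counit.app X)) (Iso.refl _)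
      ?_ ?_ ?_ ?_
    · exact adj.counit.naturality p₁
    · exact adj.counit.naturality p₂
    · exact ((Category.comp_id _).trans ((IsIso.hom_inv_id_assoc _ _).symm))
    · exact ((Category.comp_id _).trans ((IsIso.hom_inv_id_assoc _ _).symm))

end Sheaf

/-- Every morphism of sheaves of sets is an epimorphism followed by a monomorphism. -/
theorem exists_factorisation {J : GrothendieckTopology C} [HasSheafify J (Type w)] {X Y : Sheaf J (Type w)}
    (f : X ⟶ Y) :
    ∃ (I : Sheaf J (Type w)) (q : X ⟶ I) (m : I ⟶ Y), Epi q ∧ Mono m ∧ q ≫ m = f := by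
  let adj := sheafificationAdjunction J (Type w)
  refine ⟨_, inv (adj.counit.app X) ≫ (presheafToSheaf J (Type w)).map (factorThruImage f.hom),
    (presheafToSheaf J (Type w)).map (image.ι f.hom) ≫ adj.counit.app Y, ?_, inferInstance, ?_⟩
  · infer_instance
  · rw [Category.assoc, ← Functor.map_comp_assoc, image.fac]
    rw [IsIso.inv_comp_eq]
    exact adj.counit.naturality f

end Groth.Agent.ShfCatLib
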