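import Groth.Agent.ShfCatLib.Exact
import Mathlib.CategoryTheory.Monoidal.Cartesian.Grp
import Mathlib.CategoryTheory.Sites.CartesianMonoidal
import Mathlib.Tactic.Group

/-!
# Quotients of sheaves of groups by subgroup sheaves
-/

set_option autoImplicit false
set_option linter.unusedSectionVars false

universe w v u

open CategoryTheory CategoryTheory.Limits MonoidalCategory CartesianMonoidalCategory
open scoped MonObj

namespace Groth.Agent.ShfCatLib

section Cover

variable {E : Type u} [Category.{v} E] [HasPullbacks E]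
  [(MorphismProperty.epimorphisms E).IsStableUnderBaseChange]

/-- A map into the target of an epimorphism lifts after an epimorphism. -/
theorem exists_lift {A B T : E} (π : A ⟶ B) [Epi π] (q : T ⟶ B) :
    ∃ (T' : E) (s : T' ⟶ T) (a : T' ⟶ A), Epi s ∧ s ≫ q = a ≫ π :=
  ⟨_, pullback.fst q π, pullback.snd q π,
    MorphismProperty.of_isPullback (P := MorphismProperty.epimorphisms E)
      (IsPullback.of_hasPullback q π).flip ‹Epi π›, pullback.condition⟩

variable [CartesianMonoidalCategory E]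

theorem epi_tensorHom {A B A' B' : E} (f : A ⟶ B) (g : A' ⟶ B') [Epi f] [Epi g] : Epi (f ⊗ₘ g) := by
  obtain ⟨T₁, s₁, a₁, hs₁, h₁⟩ := exists_lift f (fst B B')
  obtain ⟨T₂, s₂, a₂, hs₂, h₂⟩ := exists_lift g (s₁ ≫ snd B B')
  have : lift (s₂ ≫ a₁) a₂ ≫ (f ⊗ₘ g) = s₂ ≫ s₁ := by
    ext
    · simp [h₁]
    · simpa using h₂.symm
  have : Epi (lift (s₂ ≫ a₁) a₂ ≫ (f ⊗ₘ g)) := by rw [this]; infer_instance
  exact epi_of_epi (lift (s₂ ≫ a₁) a₂) (f ⊗ₘ g)

end Cover

/-- Categories in which equivalence relations are kernel pairs of their coequalizers and epimorphisms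
are effective and stable under base change. -/
class IsExactCat (E : Type u) [Category.{v} E] : Prop where
  isKernelPair {R X : E} {p₁ p₂ : R ⟶ X} (e : EquivalenceRelation p₁ p₂) [HasCoequalizer p₁ p₂] :
    IsKernelPair (coequalizer.π p₁ p₂) p₁ p₂

section Sheaf

variable {C : Type u} [Category.{v} C] {J : GrothendieckTopology C} [HasSheafify J (Type w)]

/-- An equivalence relation of sheaves is the kernel pair of any of its coequalizers. -/
theorem isKernelPair_sheaf {R X : Sheaf J (Type w)} {p₁ p₂ : R ⟶ X} (e : EquivalenceRelation p₁ p₂)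
    [HasCoequalizer p₁ p₂] : IsKernelPair (coequalizer.π p₁ p₂) p₁ p₂ := by
  let e' := sheafEffective e
  exact IsPullback.of_iso e'.isKernelPair (Iso.refl _) (Iso.refl _) (Iso.refl _)
    ((e'.isCoequalizer p₁ p₂).coconePointUniqueUpToIso (colimit.isColimit _))
    (by simp) (by simp)
    ((IsColimit.comp_coconePointUniqueUpToIso_hom (e'.isCoequalizer p₁ p₂) _ WalkingParallelPair.one).trans
      (Category.id_comp _).symm)
    ((IsColimit.comp_coconePointUniqueUpToIso_hom (e'.isCoequalizer p₁ p₂) _ WalkingParallelPair.one).trans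
      (Category.id_comp _).symm)

instance : IsExactCat (Sheaf J (Type w)) := ⟨fun e => isKernelPair_sheaf e⟩

end Sheaf

section Exact

variable {E : Type u} [Category.{v} E] [HasPullbacks E] [IsRegularEpiCategory E] [IsExactCat E]
  [(MorphismProperty.epimorphisms E).IsStableUnderBaseChange]

omit [IsExactCat E] [(MorphismProperty.epimorphisms E).IsStableUnderBaseChange] in
theorem effectiveEpi_of_epi {X Y : E} (f : X ⟶ Y) [Epi f] : EffectiveEpi f :=
  (isRegularEpi_iff_effectiveEpi f).1 (IsRegularEpiCategory.regularEpiOfEpi f)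

omit [IsExactCat E] [(MorphismProperty.epimorphisms E).IsStableUnderBaseChange] in
/-- Maps constant on the fibres of an epimorphism descend. -/
theorem exists_desc {A B W : E} (f : A ⟶ B) [Epi f] (e : A ⟶ W)
    (h : ∀ {T : E} (a b : T ⟶ A), a ≫ f = b ≫ f → a ≫ e = b ≫ e) :
    ∃ d : B ⟶ W, f ≫ d = e :=
  have := effectiveEpi_of_epi f
  ⟨EffectiveEpi.desc f e h, EffectiveEpi.fac f e h⟩

variable [CartesianMonoidalCategory E] [HasCoequalizers E] {H G : E} [GrpObj H] [GrpObj G] (u : H ⟶ G)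

/-- Right translation. -/
abbrev rightAct : G ⊗ H ⟶ G := (G ◁ u) ≫ μ[G]

lemma lift_rightAct {T : E} (g : T ⟶ G) (h : T ⟶ H) :
    lift g h ≫ rightAct u = g * (h ≫ u) := by
  simp [rightAct, Hom.mul_def]

lemma comp_rightAct {T : E} (a : T ⟶ G ⊗ H) :
    a ≫ rightAct u = (a ≫ fst G H) * ((a ≫ snd G H) ≫ u) := by
  rw [← lift_rightAct, CartesianMonoidalCategory.lift_comp_fst_snd]

variable [IsMonHom u]

/-- The relation of a subgroup sheaf. -/
noncomputable def cosetRel [Mono u] : EquivalenceRelation (fst G H) (rightAct u) :=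
  { right_cancellation := fun {T} a b h₁ h₂ => by
      rw [comp_rightAct, comp_rightAct, h₁, mul_right_inj, cancel_mono] at h₂
      exact CartesianMonoidalCategory.hom_ext _ _ h₁ h₂
    r := lift (𝟙 G) 1
    reflexivity₁ := lift_fst _ _
    reflexivity₂ := by rw [lift_rightAct, MonObj.one_comp, mul_one]
    s := lift (rightAct u) (snd G H)⁻¹
    symmetry₁ := lift_fst _ _
    symmetry₂ := by
      rw [lift_rightAct, GrpObj.inv_comp]
      have := comp_rightAct u (𝟙 (G ⊗ H))
      rw [Category.id_comp, Category.id_comp, Category.id_comp] at this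
      rw [this, mul_inv_cancel_right]
    c := PullbackCone.mk (pullback.fst (rightAct u) (fst G H)) (pullback.snd (rightAct u) (fst G H))
      pullback.condition
    isLimit := pullbackIsPullback _ _
    t := lift (pullback.fst (rightAct u) (fst G H) ≫ fst G H)
      ((pullback.fst (rightAct u) (fst G H) ≫ snd G H) * (pullback.snd (rightAct u) (fst G H) ≫ snd G H))
    transitivity₁ := lift_fst _ _
    transitivity₂ := by
      show _ ≫ rightAct u = pullback.snd (rightAct u) (fst G H) ≫ rightAct u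
      refine (lift_rightAct u _ _).trans ?_
      rw [comp_rightAct u (pullback.snd (rightAct u) (fst G H)), ← pullback.condition, comp_rightAct,
        MonObj.mul_comp, mul_assoc]
      rfl }

/-- The quotient map to the coset sheaf. -/
noncomputable abbrev cosetπ : G ⟶ coequalizer (fst G H) (rightAct u) := coequalizer.π (fst G H) (rightAct u)

/-- Points with the same coset. -/
theorem cosetπ_eq_iff [Mono u] {T : E} (x y : T ⟶ G) :
    x ≫ cosetπ u = y ≫ cosetπ u ↔ ∃ h : T ⟶ H, y = x * (h ≫ u) := by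
  constructor
  · intro hxy
    have hk := IsExactCat.isKernelPair (cosetRel u)
    refine ⟨hk.lift x y hxy ≫ snd G H, ?_⟩
    have := comp_rightAct u (hk.lift x y hxy)
    rwa [hk.lift_fst x y hxy, hk.lift_snd x y hxy] at this
  · rintro ⟨h, rfl⟩
    rw [← lift_rightAct, Category.assoc, ← coequalizer.condition, ← Category.assoc, lift_fst]

/-- Normality of a subgroup sheaf. -/
def NormalSub : Prop :=
  ∀ (Y : E) (g : Y ⟶ G) (h : Y ⟶ H), ∃ h' : Y ⟶ H, g * (h ≫ u) * g⁻¹ = h' ≫ u

/-- A normal subgroup sheaf has a quotient sheaf of groups. -/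
theorem existsUnique_quotientGrp [Mono u] (hn : NormalSub u) :
    ∃! str : GrpObj (coequalizer (fst G H) (rightAct u)),
      @IsMonHom (E) _ _ G (coequalizer (fst G H) (rightAct u)) _ str.toMonObj (cosetπ u) := by
  let π := cosetπ u
  have := epi_tensorHom π π
  obtain ⟨m, hm⟩ := exists_desc (π ⊗ₘ π) (μ[G] ≫ π) (fun {T} a b hab => by
    have h₁ : (a ≫ fst G G) ≫ π = (b ≫ fst G G) ≫ π := by
      simpa using congrArg (fun q => q ≫ fst _ _) hab
    have h₂ : (a ≫ snd G G) ≫ π = (b ≫ snd G G) ≫ π := by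
      simpa using congrArg (fun q => q ≫ snd _ _) hab
    obtain ⟨k₁, hk₁⟩ := (cosetπ_eq_iff u _ _).1 h₁
    obtain ⟨k₂, hk₂⟩ := (cosetπ_eq_iff u _ _).1 h₂
    obtain ⟨k₁', hk₁'⟩ := hn _ (a ≫ snd G G)⁻¹ k₁
    rw [inv_inv] at hk₁'
    have ha : a ≫ μ[G] = (a ≫ fst G G) * (a ≫ snd G G) := by simp [Hom.mul_def, ← comp_lift]
    have hb : b ≫ μ[G] = (b ≫ fst G G) * (b ≫ snd G G) := by simp [Hom.mul_def, ← comp_lift]
    rw [← Category.assoc, ← Category.assoc, ha, hb, cosetπ_eq_iff]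
    refine ⟨k₁' * k₂, ?_⟩
    rw [hk₁, hk₂, MonObj.mul_comp, ← hk₁']
    group)
  obtain ⟨i, hi⟩ := exists_desc π (ι[G] ≫ π) (fun {T} a b hab => by
    obtain ⟨k, hk⟩ := (cosetπ_eq_iff u a b).1 hab
    obtain ⟨k', hk'⟩ := hn _ a k⁻¹
    rw [← Category.assoc, ← Category.assoc, ← Hom.inv_def, ← Hom.inv_def, cosetπ_eq_iff]
    refine ⟨k', ?_⟩
    rw [← hk', GrpObj.inv_comp, hk]
    group)
  have hmπ : ∀ {T : E} (a b : T ⟶ G), lift (a ≫ π) (b ≫ π) ≫ m = (a * b) ≫ π := by
    intro T a b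
    rw [← lift_map, Category.assoc, hm, Hom.mul_def, Category.assoc]
  have hiπ : ∀ {T : E} (a : T ⟶ G), (a ≫ π) ≫ i = a⁻¹ ≫ π := by
    intro T a
    rw [Category.assoc, hi, Hom.inv_def, Category.assoc]
  have hone : ∀ {T : E}, toUnit T ≫ η[G] ≫ π = (1 : T ⟶ G) ≫ π := by
    intro T
    rw [Hom.one_def, Category.assoc]
  have one_mul' : ∀ {T : E} (q : T ⟶ _), lift (toUnit T ≫ η[G] ≫ π) q ≫ m = q := by
    intro T q
    obtain ⟨T', s, a, hs, ha⟩ := exists_lift π q
    rw [← cancel_epi s, comp_lift_assoc, ← Category.assoc, comp_toUnit, hone, ha, hmπ, one_mul]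
  have mul_one' : ∀ {T : E} (q : T ⟶ _), lift q (toUnit T ≫ η[G] ≫ π) ≫ m = q := by
    intro T q
    obtain ⟨T', s, a, hs, ha⟩ := exists_lift π q
    rw [← cancel_epi s, comp_lift_assoc, ← Category.assoc s, comp_toUnit, hone, ha, hmπ, mul_one]
  have assoc' : ∀ {T : E} (p q r : T ⟶ _),
      lift (lift p q ≫ m) r ≫ m = lift p (lift q r ≫ m) ≫ m := by
    intro T p q r
    obtain ⟨T₁, s₁, a, hs₁, ha⟩ := exists_lift π p
    obtain ⟨T₂, s₂, b, hs₂, hb⟩ := exists_lift π (s₁ ≫ q)
    obtain ⟨T₃, s₃, c, hs₃, hc⟩ := exists_lift π (s₂ ≫ s₁ ≫ r)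
    rw [← cancel_epi s₁, ← cancel_epi s₂, ← cancel_epi s₃]
    simp only [comp_lift_assoc, comp_lift]
    rw [ha, hb, hc]
    simp only [← Category.assoc s₃, ← Category.assoc s₂, ← Category.assoc (s₃ ≫ s₂), hmπ]
    rw [mul_assoc]
  have inv_left : ∀ {T : E} (q : T ⟶ _), lift (q ≫ i) q ≫ m = toUnit T ≫ η[G] ≫ π := by
    intro T q
    obtain ⟨T', s, a, hs, ha⟩ := exists_lift π q
    rw [← cancel_epi s, comp_lift_assoc, ← Category.assoc s q i, ha, hiπ, hmπ, inv_mul_cancel,
      ← Category.assoc s, comp_toUnit, hone]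
  have inv_right : ∀ {T : E} (q : T ⟶ _), lift q (q ≫ i) ≫ m = toUnit T ≫ η[G] ≫ π := by
    intro T q
    obtain ⟨T', s, a, hs, ha⟩ := exists_lift π q
    rw [← cancel_epi s, comp_lift_assoc, ← Category.assoc s q i, ha, hiπ, hmπ, mul_inv_cancel,
      ← Category.assoc s, comp_toUnit, hone]
  let str : GrpObj (coequalizer (fst G H) (rightAct u)) :=
    { one := η[G] ≫ π
      mul := m
      one_mul := by
        have := one_mul' (snd (𝟙_ _) (coequalizer (fst G H) (rightAct u)))
        rw [show (η[G] ≫ π) ▷ coequalizer (fst G H) (rightAct u) =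
          lift (toUnit _ ≫ η[G] ≫ π) (snd _ _) by ext <;> simp [toUnit_unique (fst (𝟙_ _) _) (toUnit _)]]
        rw [this, leftUnitor_hom]
      mul_one := by
        have := mul_one' (fst (coequalizer (fst G H) (rightAct u)) (𝟙_ _))
        rw [show coequalizer (fst G H) (rightAct u) ◁ (η[G] ≫ π) =
          lift (fst _ _) (toUnit _ ≫ η[G] ≫ π) by ext <;> simp [toUnit_unique (snd _ (𝟙_ _)) (toUnit _)]]
        rw [this, rightUnitor_hom]
      mul_assoc := by
        let Q := coequalizer (fst G H) (rightAct u)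
        have := assoc' (fst (Q ⊗ Q) Q ≫ fst Q Q) (fst (Q ⊗ Q) Q ≫ snd Q Q) (snd (Q ⊗ Q) Q)
        rw [show m ▷ Q = lift (lift (fst (Q ⊗ Q) Q ≫ fst Q Q) (fst (Q ⊗ Q) Q ≫ snd Q Q) ≫ m) (snd (Q ⊗ Q) Q) by
          ext <;> simp [Q], this]
        have e : (α_ Q Q Q).hom ≫ (Q ◁ m) =
            lift (fst (Q ⊗ Q) Q ≫ fst Q Q) (lift (fst (Q ⊗ Q) Q ≫ snd Q Q) (snd (Q ⊗ Q) Q) ≫ m) := by
          ext
          · simp
          · rw [Category.assoc, whiskerLeft_snd, lift_snd, ← Category.assoc]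
            congr 1
            ext <;> simp
        exact (congrArg (· ≫ m) e.symm).trans (Category.assoc _ _ _)
      inv := i
      left_inv := by simpa using inv_left (𝟙 _)
      right_inv := by simpa using inv_right (𝟙 _) }
  refine ⟨str, @IsMonHom.mk _ _ _ _ _ _ str.toMonObj _ rfl hm.symm, fun str' h' => ?_⟩
  refine GrpObj.ext _ _ (MonObj.ext _ _ ?_)
  rw [← cancel_epi (π ⊗ₘ π)]
  exact (@IsMonHom.mul_hom _ _ _ _ _ _ str'.toMonObj _ h').symm.trans hm.symm

/-- The left action on the coset sheaf. -/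
theorem existsUnique_cosetAct [Mono u] :
    ∃! act : G ⊗ coequalizer (fst G H) (rightAct u) ⟶ coequalizer (fst G H) (rightAct u),
      (η[G] ▷ coequalizer (fst G H) (rightAct u)) ≫ act = (λ_ (coequalizer (fst G H) (rightAct u))).hom ∧
        (μ[G] ▷ coequalizer (fst G H) (rightAct u)) ≫ act =
          (α_ G G (coequalizer (fst G H) (rightAct u))).hom ≫ (G ◁ act) ≫ act ∧
        μ[G] ≫ cosetπ u = (G ◁ cosetπ u) ≫ act := by
  let π := cosetπ u
  let Q := coequalizer (fst G H) (rightAct u)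
  have : Epi (G ◁ π) := by
    have := epi_tensorHom (𝟙 G) π
    rwa [id_tensorHom] at this
  obtain ⟨act, hact⟩ := exists_desc (G ◁ π) (μ[G] ≫ π) (fun {T} a b hab => by
    have h₁ : a ≫ fst G G = b ≫ fst G G := by simpa using congrArg (fun q => q ≫ fst _ _) hab
    have h₂ : (a ≫ snd G G) ≫ π = (b ≫ snd G G) ≫ π := by
      simpa using congrArg (fun q => q ≫ snd _ _) hab
    obtain ⟨k, hk⟩ := (cosetπ_eq_iff u _ _).1 h₂
    have ha : a ≫ μ[G] = (a ≫ fst G G) * (a ≫ snd G G) := by simp [Hom.mul_def, ← comp_lift]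
    have hb : b ≫ μ[G] = (b ≫ fst G G) * (b ≫ snd G G) := by simp [Hom.mul_def, ← comp_lift]
    rw [← Category.assoc, ← Category.assoc, ha, hb, cosetπ_eq_iff]
    exact ⟨k, by rw [hk, ← h₁, mul_assoc]⟩)
  have hπ : ∀ {T : E} (a b : T ⟶ G), lift a (b ≫ π) ≫ act = (a * b) ≫ π := by
    intro T a b
    rw [← lift_whiskerLeft, Category.assoc, hact, Hom.mul_def, Category.assoc]
  refine ⟨act, ⟨?_, ?_, hact.symm⟩, fun act' h' => ?_⟩
  · obtain ⟨T', s, a, hs, ha⟩ := exists_lift π (snd (𝟙_ _) Q)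
    rw [← cancel_epi s, leftUnitor_hom, ha, show η[G] ▷ Q = lift (toUnit _ ≫ η[G]) (snd _ _) by
      ext <;> simp [toUnit_unique (fst (𝟙_ _) _) (toUnit _)], comp_lift_assoc, ha, ← Category.assoc s,
      comp_toUnit, ← Hom.one_def, hπ, one_mul]
  · obtain ⟨T', s, c, hs, hc⟩ := exists_lift π (snd (G ⊗ G) Q)
    rw [← cancel_epi s]
    let a := s ≫ fst (G ⊗ G) Q ≫ fst G G
    let b := s ≫ fst (G ⊗ G) Q ≫ snd G G
    have e₁ : s ≫ (μ[G] ▷ Q) = lift (a * b) (c ≫ π) := by
      ext
      · rw [Category.assoc, whiskerRight_fst, lift_fst]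
        simp [a, b, Hom.mul_def, ← comp_lift]
      · rw [Category.assoc, whiskerRight_snd, lift_snd]
        exact hc
    have e₂ : s ≫ (α_ G G Q).hom ≫ (G ◁ act) = lift a (lift b (c ≫ π) ≫ act) := by
      ext
      · rw [lift_fst, Category.assoc, Category.assoc, whiskerLeft_fst, associator_hom_fst]
      · rw [lift_snd, Category.assoc, Category.assoc, whiskerLeft_snd, ← Category.assoc (α_ G G Q).hom,
          ← Category.assoc]
        congr 1
        ext
        · rw [lift_fst, Category.assoc, Category.assoc]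
          simp [b]
        · simpa using hc
    rw [← Category.assoc, e₁, hπ, ← Category.assoc (α_ G G Q).hom, ← Category.assoc s, e₂, hπ, hπ, mul_assoc]
  · rw [← cancel_epi (G ◁ π)]
    exact h'.2.2.symm.trans hact.symm

/-- The trace of a subgroup on another one. -/
theorem isKernelPair_trace [Mono u] {L : E} [GrpObj L] (l : L ⟶ G) [Mono l] [IsMonHom l] :
    IsKernelPair (l ≫ cosetπ u) (fst L (pullback u l)) ((L ◁ pullback.snd u l) ≫ μ[L]) := by
  have key : ∀ {T : E} (q : T ⟶ L ⊗ pullback u l), q ≫ (L ◁ pullback.snd u l) ≫ μ[L] =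
      (q ≫ fst L (pullback u l)) * (q ≫ snd L (pullback u l) ≫ pullback.snd u l) := by
    intro T q
    rw [Hom.mul_def, ← comp_lift_assoc]
    congr 2
    ext <;> simp
  have sq : fst L (pullback u l) ≫ l ≫ cosetπ u =
      ((L ◁ pullback.snd u l) ≫ μ[L]) ≫ l ≫ cosetπ u := by
    have := key (𝟙 _)
    rw [Category.id_comp, Category.id_comp, Category.id_comp] at this
    rw [← Category.assoc, ← Category.assoc, cosetπ_eq_iff]
    refine ⟨snd L (pullback u l) ≫ pullback.fst u l, ?_⟩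
    rw [this, MonObj.mul_comp]
    simp [pullback.condition]
  have ex : ∀ {T : E} (a b : T ⟶ L), a ≫ l ≫ cosetπ u = b ≫ l ≫ cosetπ u →
      ∃ h : T ⟶ H, h ≫ u = (a⁻¹ * b) ≫ l := by
    intro T a b hab
    rw [← Category.assoc, ← Category.assoc, cosetπ_eq_iff] at hab
    obtain ⟨h, hh⟩ := hab
    exact ⟨h, by rw [MonObj.mul_comp, GrpObj.inv_comp, hh, inv_mul_cancel_left]⟩
  choose h hh using fun T (a b : T ⟶ L) hab => ex a b hab
  refine ⟨⟨sq⟩, ⟨PullbackCone.IsLimit.mk sq
    (fun s => lift s.fst (pullback.lift (h _ s.fst s.snd s.condition) (s.fst⁻¹ * s.snd)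
      (hh _ s.fst s.snd s.condition)))
    (fun s => lift_fst _ _) (fun s => ?_) fun s m h₁ h₂ => ?_⟩⟩
  · rw [key]
    simp only [lift_fst, lift_snd_assoc, pullback.lift_snd, mul_inv_cancel_left]
  · rw [key, h₁] at h₂
    apply CartesianMonoidalCategory.hom_ext
    · simpa using h₁
    · have h₃ : m ≫ snd L (pullback u l) ≫ pullback.snd u l = s.fst⁻¹ * s.snd := by
        rw [← h₂, inv_mul_cancel_left]
      rw [lift_snd]
      apply pullback.hom_ext
      · rw [pullback.lift_fst, ← cancel_mono u, hh, Category.assoc, Category.assoc, pullback.condition, ← h₃]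
        simp
      · rw [pullback.lift_snd, Category.assoc, h₃]

/-- The third isomorphism. -/
theorem third_iso [Mono u] {K : E} [GrpObj K] (k : K ⟶ G) [Mono k] [IsMonHom k] (h : H ⟶ K) [Mono h]
    [IsMonHom h] (hu : h ≫ k = u)
    (act : coequalizer (fst G H) (rightAct u) ⊗ coequalizer (fst K H) (rightAct h) ⟶
      coequalizer (fst G H) (rightAct u))
    (hact : (cosetπ u ⊗ₘ cosetπ h) ≫ act = rightAct k ≫ cosetπ u)
    (qbar : coequalizer (fst G H) (rightAct u) ⟶ coequalizer (fst G K) (rightAct k))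
    (hq : cosetπ u ≫ qbar = cosetπ k) :
    Mono (lift act (fst _ _)) ∧ ∃ wq : fst _ _ ≫ qbar = act ≫ qbar, Nonempty (IsColimit (Cofork.ofπ qbar wq)) := by
  have := epi_tensorHom (cosetπ u) (cosetπ h)
  have hk : ∀ {T : E} (g : T ⟶ G) (x : T ⟶ K),
      lift (g ≫ cosetπ u) (x ≫ cosetπ h) ≫ act = (g * (x ≫ k)) ≫ cosetπ u := by
    intro T g x
    rw [← lift_map, Category.assoc, hact, ← Category.assoc, lift_rightAct]
  refine ⟨⟨fun {T} a b hab => ?_⟩, ?_⟩
  · have h₁ : a ≫ act = b ≫ act := by simpa using congrArg (fun q => q ≫ fst _ _) hab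
    have h₂ : a ≫ fst _ _ = b ≫ fst _ _ := by simpa using congrArg (fun q => q ≫ snd _ _) hab
    obtain ⟨T₁, s₁, g, hs₁, hg⟩ := exists_lift (cosetπ u) (a ≫ fst _ _)
    obtain ⟨T₂, s₂, x, hs₂, hx⟩ := exists_lift (cosetπ h) (s₁ ≫ a ≫ snd _ _)
    obtain ⟨T₃, s₃, y, hs₃, hy⟩ := exists_lift (cosetπ h) (s₂ ≫ s₁ ≫ b ≫ snd _ _)
    have ea : s₃ ≫ s₂ ≫ s₁ ≫ a = lift ((s₃ ≫ s₂ ≫ g) ≫ cosetπ u) ((s₃ ≫ x) ≫ cosetπ h) := by
      ext
      · simp [hg]
      · simp [hx]
    have eb : s₃ ≫ s₂ ≫ s₁ ≫ b = lift ((s₃ ≫ s₂ ≫ g) ≫ cosetπ u) (y ≫ cosetπ h) := by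
      ext
      · simp [← hg, h₂]
      · simp [hy]
    rw [← cancel_epi s₁, ← cancel_epi s₂, ← cancel_epi s₃, ea, eb]
    have := congrArg (fun q => s₃ ≫ s₂ ≫ s₁ ≫ q) h₁
    simp only [← Category.assoc] at this ea eb
    rw [ea, eb, hk, hk, cosetπ_eq_iff] at this
    obtain ⟨c, hc⟩ := this
    rw [mul_assoc, mul_right_inj, ← hu, ← Category.assoc, ← MonObj.mul_comp, cancel_mono] at hc
    rw [(cosetπ_eq_iff h (s₃ ≫ x) y).2 ⟨c, hc⟩]
  · have wq : fst _ _ ≫ qbar = act ≫ qbar := by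
      rw [← cancel_epi (cosetπ u ⊗ₘ cosetπ h), ← Category.assoc, tensorHom_fst, Category.assoc, hq,
        ← Category.assoc, hact, Category.assoc, hq]
      exact coequalizer.condition (fst G K) (rightAct k)
    have hc : ∀ s : Cofork (fst _ _) act,
        fst G K ≫ cosetπ u ≫ s.π = rightAct k ≫ cosetπ u ≫ s.π := by
      intro s
      rw [← Category.assoc, ← tensorHom_fst (cosetπ u) (cosetπ h), Category.assoc, s.condition,
        ← Category.assoc, hact, Category.assoc]
    refine ⟨wq, ⟨Cofork.IsColimit.mk _ (fun s => coequalizer.desc _ (hc s)) (fun s => ?_) fun s m hm => ?_⟩⟩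
    · rw [← cancel_epi (cosetπ u)]
      exact (Category.assoc _ _ _).symm.trans ((congrArg (· ≫ _) hq).trans (coequalizer.π_desc _ _))
    · apply coequalizer.hom_ext (f := fst G K) (g := rightAct k)
      refine Eq.trans ?_ (coequalizer.π_desc _ (hc s)).symm
      rw [← hm, ← Category.assoc (cosetπ u)]
      exact congrArg (· ≫ m) hq.symm

end Exact

end Groth.Agent.ShfCatLib
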