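import Groth.Agent.ShfCatLib.Quotient
import Mathlib.CategoryTheory.Subobject.Basic
import Mathlib.CategoryTheory.Subobject.FactorThru

/-!
# Subgroups of a quotient
-/

set_option autoImplicit false
set_option linter.unusedSectionVars false

universe v u

open CategoryTheory CategoryTheory.Limits MonoidalCategory CartesianMonoidalCategory
open scoped MonObj

namespace Groth.Agent.ShfCatLib

variable {E : Type u} [Category.{v} E] [HasPullbacks E] [IsRegularEpiCategory E] [IsExactCat E]
  [(MorphismProperty.epimorphisms E).IsStableUnderBaseChange]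

lemma pullback_factors_iff {X Y T : E} (π : X ⟶ Y) (P : Subobject Y) (x : T ⟶ X) :
    ((Subobject.pullback π).obj P).Factors x ↔ P.Factors (x ≫ π) := by
  rw [Subobject.pullback_obj, Subobject.mk_factors_iff, Subobject.factors_iff]
  constructor
  · rintro ⟨a, rfl⟩
    exact ⟨a ≫ pullback.fst _ _, (Category.assoc _ _ _).trans
      ((congrArg (a ≫ ·) pullback.condition).trans (Category.assoc _ _ _).symm)⟩
  · rintro ⟨a, ha⟩
    exact ⟨pullback.lift a x ha, pullback.lift_snd _ _ _⟩

lemma factors_of_epi {X T T' : E} (P : Subobject X) (s : T' ⟶ T) [Epi s] (x : T ⟶ X)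
    (h : P.Factors (s ≫ x)) : P.Factors x := by
  have : StrongEpi s := strongEpi_of_epi _
  have sq : CommSq (P.factorThru _ h) s P.arrow x := ⟨P.factorThru_arrow _ h⟩
  exact (Subobject.factors_iff P x).2 ⟨sq.lift, sq.fac_right⟩

lemma pullback_injective_of_epi {X Y : E} (π : X ⟶ Y) [Epi π] :
    Function.Injective (Subobject.pullback π).obj := by
  intro A B h
  have key : ∀ {A B : Subobject Y},
      (Subobject.pullback π).obj A = (Subobject.pullback π).obj B → A ≤ B := by
    intro A B hAB
    obtain ⟨T', s, a, hs, ha⟩ := exists_lift π A.arrow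
    refine Subobject.le_of_factors (factors_of_epi B s A.arrow ?_)
    rw [ha, ← pullback_factors_iff π B a, ← hAB, pullback_factors_iff, ← ha]
    exact A.factors_comp_arrow s
  exact le_antisymm (key h) (key h.symm)

variable [CartesianMonoidalCategory E] {G : E} [GrpObj G]

/-- The subobject is closed under the group operations. -/
structure IsSubgroup (P : Subobject G) : Prop where
  one : ∀ {T : E}, P.Factors (1 : T ⟶ G)
  mul : ∀ {T : E} {f g : T ⟶ G}, P.Factors f → P.Factors g → P.Factors (f * g)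
  inv : ∀ {T : E} {f : T ⟶ G}, P.Factors f → P.Factors f⁻¹

theorem exists_grpObj_iff (P : Subobject G) :
    (∃ str : GrpObj (P : E), @IsMonHom E _ _ (P : E) G str.toMonObj _ P.arrow) ↔ IsSubgroup P := by
  constructor
  · rintro ⟨str, hstr⟩
    letI := str
    haveI := hstr
    refine ⟨fun {T} => ?_, fun {T f g} hf hg => ?_, fun {T f} hf => ?_⟩
    · rw [← MonObj.one_comp P.arrow]
      exact P.factors_comp_arrow _
    · rw [← P.factorThru_arrow f hf, ← P.factorThru_arrow g hg, ← MonObj.mul_comp]
      exact P.factors_comp_arrow _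
    · rw [← P.factorThru_arrow f hf, ← GrpObj.inv_comp]
      exact P.factors_comp_arrow _
  · intro h
    let η' := P.factorThru _ (h.one (T := 𝟙_ E))
    let μ' := P.factorThru _ (h.mul (P.factors_comp_arrow (fst (P : E) P)) (P.factors_comp_arrow (snd (P : E) P)))
    let ι' := P.factorThru _ (h.inv (P.factors_comp_arrow (𝟙 (P : E))))
    have hμ : ∀ {T : E} (a b : T ⟶ P), lift a b ≫ μ' ≫ P.arrow = (a ≫ P.arrow) * (b ≫ P.arrow) := by
      intro T a b
      rw [P.factorThru_arrow, MonObj.comp_mul, lift_fst_assoc, lift_snd_assoc]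
    have hη : ∀ {T : E}, toUnit T ≫ η' ≫ P.arrow = 1 := by
      intro T
      rw [P.factorThru_arrow, MonObj.comp_one]
    have hι : ∀ {T : E} (a : T ⟶ P), a ≫ ι' ≫ P.arrow = (a ≫ P.arrow)⁻¹ := by
      intro T a
      rw [P.factorThru_arrow, GrpObj.comp_inv, Category.id_comp]
    refine ⟨{
      one := η'
      mul := μ'
      one_mul := by
        rw [← cancel_mono P.arrow, show η' ▷ (P : E) = lift (toUnit _ ≫ η') (snd _ _) by
          ext <;> simp [toUnit_unique (fst (𝟙_ E) _) (toUnit _)], Category.assoc, hμ, Category.assoc, hη,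
          one_mul, leftUnitor_hom]
      mul_one := by
        rw [← cancel_mono P.arrow, show (P : E) ◁ η' = lift (fst _ _) (toUnit _ ≫ η') by
          ext <;> simp [toUnit_unique (snd _ (𝟙_ E)) (toUnit _)], Category.assoc, hμ, Category.assoc, hη,
          mul_one, rightUnitor_hom]
      mul_assoc := by
        rw [← cancel_mono P.arrow,
          show μ' ▷ (P : E) = lift (lift (fst _ _ ≫ fst _ _) (fst _ _ ≫ snd _ _) ≫ μ') (snd _ _) by
            ext <;> simp,
          show (α_ (P : E) P P).hom ≫ (P : E) ◁ μ' ≫ μ' =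
            lift (fst _ _ ≫ fst _ _) (lift (fst _ _ ≫ snd _ _) (snd _ _) ≫ μ') ≫ μ' by
            rw [← Category.assoc]
            congr 1
            apply CartesianMonoidalCategory.hom_ext
            · simp
            · rw [Category.assoc, whiskerLeft_snd, lift_snd, ← Category.assoc]
              congr 1
              ext <;> simp]
        simp only [Category.assoc, hμ, mul_assoc]
      inv := ι'
      left_inv := by
        rw [← cancel_mono P.arrow, Category.assoc, hμ, Category.assoc, hη, ← Category.id_comp (ι' ≫ P.arrow),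
          hι, inv_mul_cancel]
      right_inv := by
        rw [← cancel_mono P.arrow, Category.assoc, hμ, Category.assoc, hη, ← Category.id_comp (ι' ≫ P.arrow),
          hι, mul_inv_cancel] }, ?_⟩
    refine @IsMonHom.mk E _ _ (P : E) G ?_ _ P.arrow ?_ ?_
    · exact (P.factorThru_arrow _ _).trans (MonObj.one_eq_one G).symm
    · show μ' ≫ P.arrow = (P.arrow ⊗ₘ P.arrow) ≫ μ[G]
      rw [P.factorThru_arrow, Hom.mul_def]
      congr 1
      ext <;> simp

variable [HasCoequalizers E] {H : E} [GrpObj H] (u : H ⟶ G) [IsMonHom u] [Mono u]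
  [GrpObj (coequalizer (fst G H) (rightAct u))] [IsMonHom (cosetπ u)]

lemma comp_cosetπ_self : u ≫ cosetπ u = 1 := by
  have h : (1 : H ⟶ G) ≫ cosetπ u = u ≫ cosetπ u :=
    (cosetπ_eq_iff u _ _).2 ⟨𝟙 H, by rw [Category.id_comp, one_mul]⟩
  rw [← h, MonObj.one_comp]

theorem bijOn_pullback
    (hfac : ∀ {X Y : E} (f : X ⟶ Y), ∃ (I : E) (q : X ⟶ I) (m : I ⟶ Y), Epi q ∧ Mono m ∧ q ≫ m = f) :
    Set.BijOn (Subobject.pullback (cosetπ u)).obj
      {K' | IsSubgroup K'} {K | Subobject.mk u ≤ K ∧ IsSubgroup K} := by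
  refine ⟨fun K' hK' => ⟨?_, ⟨fun {T} => ?_, fun {T f g} hf hg => ?_, fun {T f} hf => ?_⟩⟩,
    (pullback_injective_of_epi (cosetπ u)).injOn, fun K hK => ?_⟩
  · have hu' : ((Subobject.pullback (cosetπ u)).obj K').Factors u := by
      rw [pullback_factors_iff, comp_cosetπ_self]
      exact hK'.one
    exact Subobject.mk_le_of_comm (Subobject.factorThru _ u hu') (Subobject.factorThru_arrow _ _ _)
  · rw [pullback_factors_iff, MonObj.one_comp]
    exact hK'.one
  · rw [pullback_factors_iff] at hf hg ⊢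
    rw [MonObj.mul_comp]
    exact hK'.mul hf hg
  · rw [pullback_factors_iff] at hf ⊢
    rw [GrpObj.inv_comp]
    exact hK'.inv hf
  · obtain ⟨I, q, m, hq, hm, hqm⟩ := hfac (K.arrow ≫ cosetπ u)
    obtain ⟨huK, hKsub⟩ := hK
    have locK : ∀ {T : E} (f : T ⟶ coequalizer (fst G H) (rightAct u)), (Subobject.mk m).Factors f →
        ∃ (T' : E) (s : T' ⟶ T) (k : T' ⟶ (K : E)), Epi s ∧ s ≫ f = k ≫ K.arrow ≫ cosetπ u := by
      intro T f hf
      obtain ⟨a, ha⟩ : ∃ a : T ⟶ I, a ≫ m = f := (Subobject.mk_factors_iff _ _).1 hf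
      obtain ⟨T', s, k, hs, hk⟩ := exists_lift q a
      refine ⟨T', s, k, hs, ?_⟩
      rw [← ha]
      rw [← Category.assoc, hk, Category.assoc, hqm]
    have fromK : ∀ {T : E} {x : T ⟶ G}, K.Factors x → (Subobject.mk m).Factors (x ≫ cosetπ u) := by
      intro T x hx
      have h' : (K.factorThru x hx ≫ q) ≫ m = x ≫ cosetπ u := by
        rw [Category.assoc, hqm, ← Category.assoc, K.factorThru_arrow]
      exact (Subobject.mk_factors_iff _ _).2 ⟨_, h'⟩
    refine ⟨Subobject.mk m, ⟨fun {T} => ?_, fun {T f g} hf hg => ?_, fun {T f} hf => ?_⟩, ?_⟩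
    · have := fromK (hKsub.one (T := T))
      rwa [MonObj.one_comp] at this
    · obtain ⟨T₁, s₁, a, hs₁, ha⟩ := locK f hf
      obtain ⟨T₂, s₂, b, hs₂, hb⟩ := locK (s₁ ≫ g) (Subobject.factors_of_factors_right _ hg)
      have := fromK (hKsub.mul (K.factors_comp_arrow (s₂ ≫ a)) (K.factors_comp_arrow b))
      refine factors_of_epi _ s₁ _ (factors_of_epi _ s₂ _ ?_)
      rw [MonObj.comp_mul, MonObj.comp_mul, ha, hb]
      rwa [MonObj.mul_comp, Category.assoc, Category.assoc, Category.assoc] at this
    · obtain ⟨T₁, s₁, a, hs₁, ha⟩ := locK f hf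
      have := fromK (hKsub.inv (K.factors_comp_arrow a))
      refine factors_of_epi _ s₁ _ ?_
      rw [GrpObj.comp_inv, ha]
      rwa [GrpObj.inv_comp, Category.assoc] at this
    · refine le_antisymm (Subobject.le_of_factors ?_) (Subobject.le_of_factors ?_)
      · obtain ⟨T', s, k, hs, hk⟩ := locK _
          ((pullback_factors_iff _ _ _).1 ((Subobject.pullback (cosetπ u)).obj (Subobject.mk m)).factors_self)
        refine factors_of_epi K s _ ?_
        rw [← Category.assoc, ← Category.assoc k] at hk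
        obtain ⟨h, hh⟩ := (cosetπ_eq_iff u _ _).1 hk.symm
        rw [hh]
        exact hKsub.mul (K.factors_comp_arrow k) (Subobject.factors_of_factors_right h
          ((Subobject.factors_iff K u).2 ⟨Subobject.ofMkLE u K huK, Subobject.ofMkLE_arrow huK⟩))
      · rw [pullback_factors_iff]
        exact fromK K.factors_self

omit [IsMonHom u] [Mono u] in
theorem normal_iff [IsMonHom u] [Mono u] (K' : Subobject (coequalizer (fst G H) (rightAct u))) :
    (∀ (Y : E) (g : Y ⟶ coequalizer (fst G H) (rightAct u)) (k : Y ⟶ (K' : E)),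
        ∃ k' : Y ⟶ (K' : E), g * (k ≫ K'.arrow) * g⁻¹ = k' ≫ K'.arrow) ↔
      ∀ (Y : E) (g : Y ⟶ G) (k : Y ⟶ ((Subobject.pullback (cosetπ u)).obj K' : E)),
        ∃ k' : Y ⟶ ((Subobject.pullback (cosetπ u)).obj K' : E),
          g * (k ≫ ((Subobject.pullback (cosetπ u)).obj K').arrow) * g⁻¹ =
            k' ≫ ((Subobject.pullback (cosetπ u)).obj K').arrow := by
  constructor
  · intro h Y g k
    let P := (Subobject.pullback (cosetπ u)).obj K'
    have hk := (pullback_factors_iff (cosetπ u) K' (k ≫ P.arrow)).1 (P.factors_comp_arrow k)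
    obtain ⟨k', hk'⟩ := h Y (g ≫ cosetπ u) (K'.factorThru _ hk)
    have : P.Factors (g * (k ≫ P.arrow) * g⁻¹) := by
      rw [pullback_factors_iff, MonObj.mul_comp, MonObj.mul_comp, GrpObj.inv_comp,
        ← K'.factorThru_arrow _ hk, hk']
      exact K'.factors_comp_arrow k'
    exact ⟨P.factorThru _ this, (P.factorThru_arrow _ this).symm⟩
  · intro h Y g k
    obtain ⟨T₁, s₁, a, hs₁, ha⟩ := exists_lift (cosetπ u) g
    obtain ⟨T₂, s₂, b, hs₂, hb⟩ := exists_lift (cosetπ u) (s₁ ≫ k ≫ K'.arrow)
    let P := (Subobject.pullback (cosetπ u)).obj K'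
    have hbP : P.Factors b := by
      rw [pullback_factors_iff, ← hb, ← Category.assoc, ← Category.assoc]
      exact K'.factors_comp_arrow _
    obtain ⟨k', hk'⟩ := h T₂ (s₂ ≫ a) (P.factorThru b hbP)
    rw [P.factorThru_arrow] at hk'
    have : K'.Factors (g * (k ≫ K'.arrow) * g⁻¹) := by
      refine factors_of_epi _ s₁ _ (factors_of_epi _ s₂ _ ?_)
      simp only [MonObj.comp_mul, GrpObj.comp_inv]
      rw [ha, hb, ← Category.assoc, ← GrpObj.inv_comp, ← MonObj.mul_comp, ← MonObj.mul_comp, hk',
        ← pullback_factors_iff]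
      exact P.factors_comp_arrow k'
    exact ⟨K'.factorThru _ this, (K'.factorThru_arrow _ this).symm⟩

end Groth.Agent.ShfCatLib
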