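import Mathlib.CategoryTheory.Sites.PrecoverageToGrothendieck
import Mathlib.CategoryTheory.Sites.SheafOfTypes

/-!
# Topologies generated by two precoverages
-/

set_option autoImplicit false
set_option linter.unusedSectionVars false
set_option linter.style.haveILetI false

universe w v u

open CategoryTheory CategoryTheory.Limits Opposite

namespace Groth.Agent.ShfCatLib

variable {C : Type u} [Category.{v} C] {P : Precoverage C}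

/-- Composites of coverings. -/
theorem exists_bind_mem [P.IsStableUnderComposition] {X : C} {R : Presieve X} (hR : R ∈ P X)
    (R₂ : ∀ ⦃Y : C⦄ ⦃f : Y ⟶ X⦄, R f → Presieve Y) (h₂ : ∀ ⦃Y : C⦄ ⦃f : Y ⟶ X⦄ (hf : R f), R₂ hf ∈ P Y) :
    ∃ T ∈ P X, ∀ ⦃Z : C⦄ ⦃q : Z ⟶ X⦄, T q →
      ∃ (Y : C) (f : Y ⟶ X) (hf : R f) (g : Z ⟶ Y), R₂ hf g ∧ g ≫ f = q := by
  obtain ⟨ι, Y, f, rfl⟩ := R.exists_eq_ofArrows
  have h : ∀ i, ∃ (σ : Type max u v) (Z : σ → C) (g : ∀ s, Z s ⟶ Y i),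
      R₂ (Presieve.ofArrows.mk i) = Presieve.ofArrows Z g := fun i => Presieve.exists_eq_ofArrows _
  choose σ Z g hg using h
  refine ⟨_, Precoverage.comp_mem_coverings f hR g (fun i => hg i ▸ h₂ _), ?_⟩
  rintro W q ⟨⟨i, s⟩⟩
  exact ⟨_, f i, Presieve.ofArrows.mk i, g i s, hg i ▸ Presieve.ofArrows.mk s, rfl⟩

/-- A sieve pulling back to sheaf conditions on all test objects is a sheaf condition. -/
theorem isSheafFor_of_test (C' : C → Prop) {F : Cᵒᵖ ⥤ Type w} {Y : C} (S : Sieve Y) (P : Precoverage C)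
    (hb : ∀ X : C, ∃ R ∈ P X, ∀ ⦃Z : C⦄ ⦃f : Z ⟶ X⦄, R f → C' Z)
    (hP : ∀ ⦃X : C⦄ ⦃R : Presieve X⦄, R ∈ P X → Presieve.IsSheafFor F R)
    (hrefine : ∀ ⦃X : C⦄ ⦃R : Presieve X⦄, R ∈ P X → ∀ ⦃V : C⦄ (k : V ⟶ X), ∃ R' ∈ P V,
      ∀ ⦃U : C⦄ ⦃q : U ⟶ V⦄, R' q → C' U ∧ ∃ (Z : C) (f : Z ⟶ X) (_ : R f) (a : U ⟶ Z), a ≫ f = q ≫ k)
    (h : ∀ ⦃Z : C⦄ (k : Z ⟶ Y), C' Z → Presieve.IsSheafFor F (S.pullback k).arrows) :
    Presieve.IsSheafFor F S.arrows := by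
  obtain ⟨R₀, hR₀, hC₀⟩ := hb Y
  intro x hx
  have ext : ∀ {Z : C} (k : Z ⟶ Y), C' Z → ∀ (t t' : F.obj (op Z)),
      (∀ ⦃W : C⦄ (a : W ⟶ Z) (ha : S (a ≫ k)), F.map a.op t = x _ ha) →
      (∀ ⦃W : C⦄ (a : W ⟶ Z) (ha : S (a ≫ k)), F.map a.op t' = x _ ha) → t = t' := by
    intro Z k hZ t t' ht ht'
    exact ((h k hZ).isSeparatedFor).ext fun W a ha => (ht a ha).trans (ht' a ha).symm
  have ex : ∀ {Z : C} (k : Z ⟶ Y), C' Z → ∃ t : F.obj (op Z),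
      ∀ ⦃W : C⦄ (a : W ⟶ Z) (ha : S (a ≫ k)), F.map a.op t = x _ ha := by
    intro Z k hZ
    obtain ⟨t, ht, -⟩ := h k hZ (fun W a ha => x (a ≫ k) ha) (fun W₁ W₂ V g₁ g₂ f₁ f₂ h₁ h₂ e =>
      hx g₁ g₂ h₁ h₂ (by rw [← Category.assoc, e, Category.assoc]))
    exact ⟨t, fun W a ha => ht a ha⟩
  choose t ht using fun Z (k : Z ⟶ Y) (hZ : C' Z) => ex k hZ
  have restrict : ∀ {Z Z' : C} (b : Z' ⟶ Z) (k : Z ⟶ Y) (hZ : C' Z) (hZ' : C' Z'),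
      F.map b.op (t Z k hZ) = t Z' (b ≫ k) hZ' := by
    intro Z Z' b k hZ hZ'
    refine ext (b ≫ k) hZ' _ _ (fun W a ha => ?_) (ht _ _ hZ')
    rw [← Functor.map_comp_apply, ← op_comp]
    exact (ht Z k hZ (a ≫ b) (by rwa [Category.assoc])).trans (by congr 1; rw [Category.assoc])
  obtain ⟨T, hT, -⟩ := hP hR₀ (fun Z f hf => t Z f (hC₀ hf)) (by
    intro Z₁ Z₂ W g₁ g₂ f₁ f₂ h₁ h₂ e
    obtain ⟨R₁, hR₁, hC₁⟩ := hb W
    refine (hP hR₁).isSeparatedFor.ext fun V b hbmem => ?_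
    rw [← Functor.map_comp_apply, ← Functor.map_comp_apply, ← op_comp, ← op_comp,
      restrict _ f₁ _ (hC₁ hbmem), restrict _ f₂ _ (hC₁ hbmem)]
    congr 1
    rw [Category.assoc, Category.assoc, e])
  have hTk : ∀ {V : C} (k : V ⟶ Y) (hV : C' V), F.map k.op T = t V k hV := by
    intro V k hV
    obtain ⟨R', hR', hR'k⟩ := hrefine hR₀ k
    refine (hP hR').isSeparatedFor.ext fun U q hq => ?_
    obtain ⟨hU, Z, f, hf, a, e⟩ := hR'k hq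
    rw [← Functor.map_comp_apply, ← op_comp, restrict q k hV hU, ← e, op_comp, Functor.map_comp_apply, hT f hf,
      restrict a f (hC₀ hf) hU]
  refine ⟨T, fun W q hq => ?_, fun T' hT' => ?_⟩
  · obtain ⟨R₁, hR₁, hC₁⟩ := hb W
    refine (hP hR₁).isSeparatedFor.ext fun V b hbmem => ?_
    have hbq : S (𝟙 V ≫ b ≫ q) := by simpa using S.downward_closed hq b
    rw [← Functor.map_comp_apply, ← op_comp, hTk _ (hC₁ hbmem)]
    refine Eq.trans ?_ ((hx (𝟙 V) b hbq hq (by simp)).trans rfl)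
    rw [← ht V (b ≫ q) (hC₁ hbmem) (𝟙 V) hbq]
    simp
  · refine (hP hR₀).isSeparatedFor.ext fun Z f hf => (ext f (hC₀ hf) _ _ (fun W a ha => ?_) ?_)
    · rw [← Functor.map_comp_apply, ← op_comp]
      exact hT' _ ha
    · rw [hT f hf]
      exact ht _ _ _

section Generated

variable {P' : Precoverage C} {C' : C → Prop} [P.HasPullbacks] [P.IsStableUnderBaseChange]
  [P.IsStableUnderComposition]

/-- A covering by test objects refining a given one. -/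
theorem exists_refine (hb : ∀ X : C, ∃ R ∈ P X, ∀ ⦃Y : C⦄ ⦃f : Y ⟶ X⦄, R f → C' Y)
    ⦃X : C⦄ ⦃R : Presieve X⦄ (hR : R ∈ P X) ⦃V : C⦄ (k : V ⟶ X) : ∃ R' ∈ P V,
      ∀ ⦃U : C⦄ ⦃q : U ⟶ V⦄, R' q → C' U ∧ ∃ (Z : C) (f : Z ⟶ X) (_ : R f) (a : U ⟶ Z), a ≫ f = q ≫ k := by
  have := Precoverage.hasPullbacks_of_mem k hR
  obtain ⟨T, hT, hTq⟩ := exists_bind_mem (Precoverage.pullbackArrows_mem k hR)
    (fun Y f _ => (hb Y).choose) (fun Y f _ => (hb Y).choose_spec.1)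
  refine ⟨T, hT, fun U q hq => ?_⟩
  obtain ⟨Y, f, ⟨Z, h, hRh⟩, g, hg, rfl⟩ := hTq hq
  haveI := R.hasPullback k hRh
  exact ⟨(hb _).choose_spec.2 hg, Z, h, hRh, g ≫ pullback.fst h k, by simp [pullback.condition]⟩

/-- The composite coverings. -/
def CompCover (C' : C → Prop) (P P' : Precoverage C) {X : C} (S : Sieve X) : Prop :=
  ∃ (R : Presieve X) (_ : R ∈ P X) (_ : ∀ ⦃Y : C⦄ ⦃f : Y ⟶ X⦄, R f → C' Y)
    (R' : ∀ ⦃Y : C⦄ ⦃f : Y ⟶ X⦄, R f → Presieve Y),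
    (∀ ⦃Y : C⦄ ⦃f : Y ⟶ X⦄ (hf : R f), R' hf ∈ P' Y) ∧
    ∀ ⦃Y : C⦄ ⦃f : Y ⟶ X⦄ (hf : R f) ⦃Z : C⦄ ⦃g : Z ⟶ Y⦄, R' hf g → S (g ≫ f)

theorem mem_of_compCover {X : C} {S : Sieve X} (h : CompCover C' P P' S) :
    S ∈ (P ⊔ P').toGrothendieck X := by
  obtain ⟨R, hR, -, R', hR', hS⟩ := h
  refine (P ⊔ P').toGrothendieck.transitive (Precoverage.generate_mem_toGrothendieck (Or.inl hR)) S ?_
  rintro Y _ ⟨Z, a, f, hf, rfl⟩
  rw [Sieve.pullback_comp]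
  refine (P ⊔ P').toGrothendieck.pullback_stable a ((P ⊔ P').toGrothendieck.superset_covering ?_
    (Precoverage.generate_mem_toGrothendieck (Or.inr (hR' hf))))
  rintro W _ ⟨V, b, g, hg, rfl⟩
  exact (Sieve.pullback f S).downward_closed (hS hf hg) b

theorem compCover_of_mem
    (hP'C : ∀ ⦃X : C⦄ ⦃R : Presieve X⦄, R ∈ P' X → C' X ∧ ∀ ⦃Y : C⦄ ⦃f : Y ⟶ X⦄, R f → C' Y)
    (hP'id : ∀ ⦃X : C⦄, C' X → Presieve.singleton (𝟙 X) ∈ P' X)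
    (ha : ∀ ⦃X : C⦄ ⦃R : Presieve X⦄, R ∈ P' X → ∀ ⦃T : C⦄ (g : T ⟶ X), C' T →
      ∃ _ : R.HasPullbacks g, Presieve.pullbackArrows g R ∈ P' T)
    (hb : ∀ X : C, ∃ R ∈ P X, ∀ ⦃Y : C⦄ ⦃f : Y ⟶ X⦄, R f → C' Y)
    (hc : ∀ ⦃S : C⦄ ⦃R₁ : Presieve S⦄, R₁ ∈ P' S →
      ∀ (R₂ : ∀ ⦃Y : C⦄ ⦃f : Y ⟶ S⦄, R₁ f → Presieve Y),
        (∀ ⦃Y : C⦄ ⦃f : Y ⟶ S⦄ (hf : R₁ f), R₂ hf ∈ P Y ∧ ∀ ⦃Z : C⦄ ⦃g : Z ⟶ Y⦄, R₂ hf g → C' Z) →
      ∀ (R₃ : ∀ ⦃Y : C⦄ ⦃f : Y ⟶ S⦄ (hf : R₁ f) ⦃Z : C⦄ ⦃g : Z ⟶ Y⦄, R₂ hf g → Presieve Z),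
        (∀ ⦃Y : C⦄ ⦃f : Y ⟶ S⦄ (hf : R₁ f) ⦃Z : C⦄ ⦃g : Z ⟶ Y⦄ (hg : R₂ hf g), R₃ hf hg ∈ P' Z) →
      ∃ T ∈ P' S, ∀ ⦃W : C⦄ ⦃q : W ⟶ S⦄, T q →
        ∃ (Y Z V : C) (f : Y ⟶ S) (hf : R₁ f) (g : Z ⟶ Y) (hg : R₂ hf g) (h : V ⟶ Z) (_ : R₃ hf hg h)
          (r : W ⟶ V), r ≫ h ≫ g ≫ f = q)
    {X : C} {S : Sieve X} (h : S ∈ (P ⊔ P').toGrothendieck X) : CompCover C' P P' S := by
  induction h with
  | of X R hR =>
    rcases hR with hR | hR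
    · obtain ⟨T, hT, hTq⟩ := exists_refine hb hR (𝟙 X)
      refine ⟨T, hT, fun Y f hf => (hTq hf).1, fun Y f _ => Presieve.singleton (𝟙 Y),
        fun Y f hf => hP'id (hTq hf).1, ?_⟩
      rintro Y f hf _ _ ⟨⟩
      obtain ⟨-, Z, g, hg, a, e⟩ := hTq hf
      exact ⟨Z, a, g, hg, by simpa using e⟩
    · obtain ⟨T, hT, hTC⟩ := hb X
      choose hpb hmem using fun (Y : C) (f : Y ⟶ X) (hf : T f) => ha hR f (hTC hf)
      refine ⟨T, hT, hTC, fun Y f hf => @Presieve.pullbackArrows _ _ _ _ f R (hpb Y f hf),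
        fun Y f hf => hmem Y f hf, ?_⟩
      intro Y f hf W q hq
      haveI := hpb Y f hf
      obtain ⟨Z, g, hg⟩ := hq
      haveI := R.hasPullback f hg
      exact ⟨Z, pullback.fst g f, g, hg, pullback.condition⟩
  | top X =>
    obtain ⟨T, hT, hTC⟩ := hb X
    exact ⟨T, hT, hTC, fun Y f _ => Presieve.singleton (𝟙 Y), fun Y f hf => hP'id (hTC hf),
      fun _ _ _ _ _ _ => trivial⟩
  | pullback X S _ Y k ih =>
    obtain ⟨R, hR, -, R', hR', hS⟩ := ih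
    obtain ⟨T, hT, hTq⟩ := exists_refine hb hR k
    choose hC Z f hf a e using hTq
    choose hpb hmem using fun (U : C) (q : U ⟶ Y) (hq : T q) => ha (hR' (hf hq)) (a hq) (hC hq)
    refine ⟨T, hT, fun U q hq => hC hq, fun U q hq => @Presieve.pullbackArrows _ _ _ _ (a hq) (R' (hf hq)) (hpb U q hq),
      fun U q hq => hmem U q hq, ?_⟩
    intro U q hq W b hb'
    haveI := hpb U q hq
    obtain ⟨V, g, hg⟩ := hb'
    haveI := (R' (hf hq)).hasPullback (a hq) hg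
    show S ((pullback.snd g (a hq) ≫ q) ≫ k)
    rw [Category.assoc, ← e hq, ← Category.assoc, ← pullback.condition, Category.assoc]
    exact S.downward_closed (hS (hf hq) hg) _
  | transitive X S R _ _ ih₁ ih₂ =>
    obtain ⟨A, hA, hAC, A', hA', hS⟩ := ih₁
    choose B hB hBC B' hB' hR using fun (Y : C) (f : Y ⟶ X) (hf : A f) (Z : C) (g : Z ⟶ Y) (hg : A' hf g) =>
      ih₂ (hS hf hg)
    choose T hT hTq using fun (Y : C) (f : Y ⟶ X) (hf : A f) =>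
      hc (hA' hf) (fun Z g hg => B Y f hf Z g hg) (fun Z g hg => ⟨hB Y f hf Z g hg, hBC Y f hf Z g hg⟩)
        (fun Z g hg W b hb' => B' Y f hf Z g hg hb') (fun Z g hg W b hb' => hB' Y f hf Z g hg hb')
    refine ⟨A, hA, hAC, fun Y f hf => T Y f hf, fun Y f hf => hT Y f hf, ?_⟩
    intro Y f hf W q hq
    obtain ⟨Z, U, V, g, hg, b, hb', c, hc', r, rfl⟩ := hTq Y f hf hq
    have := R.downward_closed (hR Y f hf Z g hg hb' hc') r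
    simpa using this

theorem isSheaf_generated_iff
    (ha : ∀ ⦃X : C⦄ ⦃R : Presieve X⦄, R ∈ P' X → ∀ ⦃T : C⦄ (g : T ⟶ X), C' T →
      ∃ _ : R.HasPullbacks g, Presieve.pullbackArrows g R ∈ P' T)
    (hb : ∀ X : C, ∃ R ∈ P X, ∀ ⦃Y : C⦄ ⦃f : Y ⟶ X⦄, R f → C' Y) (F : Cᵒᵖ ⥤ Type w) :
    Presieve.IsSheaf (P ⊔ P').toGrothendieck F ↔
      (∀ ⦃X : C⦄ ⦃R : Presieve X⦄, R ∈ P X → Presieve.IsSheafFor F R) ∧
      (∀ ⦃X : C⦄ ⦃R : Presieve X⦄, R ∈ P' X → Presieve.IsSheafFor F R) := by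
  constructor
  · intro h
    exact ⟨fun X R hR => (Presieve.isSheafFor_iff_generate R).2
        (h _ (Precoverage.generate_mem_toGrothendieck (Or.inl hR))),
      fun X R hR => (Presieve.isSheafFor_iff_generate R).2
        (h _ (Precoverage.generate_mem_toGrothendieck (Or.inr hR)))⟩
  · rintro ⟨hP, hP'⟩
    rw [Precoverage.isSheaf_toGrothendieck_iff]
    intro X Y f R hR
    rcases hR with hR | hR
    · haveI := Precoverage.hasPullbacks_of_mem f hR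
      rw [← Sieve.pullbackArrows_comm, ← Presieve.isSheafFor_iff_generate]
      exact hP (Precoverage.pullbackArrows_mem f hR)
    · refine isSheafFor_of_test C' _ P hb hP (exists_refine hb) fun Z k hZ => ?_
      rw [← Sieve.pullback_comp]
      obtain ⟨_, hmem⟩ := ha hR (k ≫ f) hZ
      rw [← Sieve.pullbackArrows_comm, ← Presieve.isSheafFor_iff_generate]
      exact hP' hmem

end Generated

end Groth.Agent.ShfCatLib
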