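import Mathlib.CategoryTheory.Adjunction.Reflective
import Mathlib.CategoryTheory.MorphismProperty.Limits
import Mathlib.CategoryTheory.Sites.Sheaf
import Mathlib.CategoryTheory.Sites.LocallyInjective
import Mathlib.CategoryTheory.Limits.FunctorCategory.EpiMono

/-!
# The topology of a lex reflective subcategory of presheaves
-/

set_option autoImplicit false

universe u

open CategoryTheory CategoryTheory.Limits Opposite

namespace Groth.Agent.ShfCatLib

variable {C : Type u} [SmallCategory C] (P : ObjectProperty (Cᵒᵖ ⥤ Type u)) [Reflective P.ι]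

/-- The reflector. -/
noncomputable abbrev L := reflector P.ι

/-- The unit. -/
noncomputable abbrev η (F : Cᵒᵖ ⥤ Type u) : F ⟶ P.ι.obj ((L P).obj F) := (reflectorAdjunction P.ι).unit.app F

lemma η_nat {F G : Cᵒᵖ ⥤ Type u} (f : F ⟶ G) : f ≫ η P G = η P F ≫ P.ι.map ((L P).map f) :=
  (reflectorAdjunction P.ι).unit.naturality f

instance isIso_map_η (F : Cᵒᵖ ⥤ Type u) : IsIso ((L P).map (η P F)) := by
  exact IsIso.of_isIso_fac_right ((reflectorAdjunction P.ι).left_triangle_components F)

variable [PreservesFiniteLimits (reflector P.ι)]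

/-- A monomorphism all whose local values lift is inverted. -/
theorem isIso_map_of_range {R N S : Cᵒᵖ ⥤ Type u} (m : R ⟶ N) [Mono m] (i : S ⟶ N) [IsIso ((L P).map i)]
    (H : ∀ (Y : Cᵒᵖ) (s : S.obj Y), ∃ a, (P.ι.map ((L P).map m)).app Y a = (η P N).app Y (i.app Y s)) :
    IsIso ((L P).map m) := by
  have : Mono ((L P).map m) := inferInstance
  have hinj : ∀ Y, Function.Injective ((P.ι.map ((L P).map m)).app Y) := fun Y => by
    have : Mono (P.ι.map ((L P).map m)) := inferInstance
    exact (mono_iff_injective _).1 ((NatTrans.mono_iff_mono_app _).1 this Y)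
  choose a ha using H
  let s₀ : S ⟶ P.ι.obj ((L P).obj R) :=
    { app := fun Y => TypeCat.ofHom (a Y)
      naturality := fun Y Z g => by
        ext s
        apply hinj Z
        refine (ha Z (S.map g s)).trans ?_
        refine Eq.trans ?_ (NatTrans.naturality_apply (P.ι.map ((L P).map m)) g (a Y s)).symm
        refine Eq.trans ?_ (congrArg ((P.ι.obj ((L P).obj N)).map g) (ha Y s)).symm
        rw [NatTrans.naturality_apply i g, NatTrans.naturality_apply (η P N) g] }
  have hs : s₀ ≫ P.ι.map ((L P).map m) = i ≫ η P N := by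
    ext Y s
    exact ha Y s
  let t : (L P).obj S ⟶ (L P).obj R := ((reflectorAdjunction P.ι).homEquiv _ _).symm s₀
  have ht : t ≫ (L P).map m = (L P).map i := by
    apply ((reflectorAdjunction P.ι).homEquiv _ _).injective
    rw [Adjunction.homEquiv_naturality_right, Equiv.apply_symm_apply, hs, Adjunction.homEquiv_unit]
    exact η_nat P i
  have : IsSplitEpi ((L P).map m) :=
    ⟨⟨⟨inv ((L P).map i) ≫ t, by rw [Category.assoc, ht, IsIso.inv_hom_id]⟩⟩⟩
  exact isIso_of_mono_of_isSplitEpi _

/-- The inclusion of a pulled back sieve. -/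
lemma isPullback_sieve {X Y : C} (S : Sieve X) (f : Y ⟶ X) :
    ∃ t : (S.pullback f).functor ⟶ S.functor,
      IsPullback t (S.pullback f).functorInclusion S.functorInclusion (yoneda.map f) := by
  refine ⟨{ app := fun Z => TypeCat.ofHom fun g => ⟨g.1 ≫ f, g.2⟩,
            naturality := fun Z W h => by ext g; exact Subtype.ext (Category.assoc _ _ _) }, IsPullback.of_forall_isPullback_app fun Z => ?_⟩
  rw [Types.isPullback_iff]
  refine ⟨rfl, fun a b h => Subtype.ext h.2, fun s g h => ⟨⟨g, ?_⟩, Subtype.ext h.symm, rfl⟩⟩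
  show S.arrows (g ≫ f)
  have h' : s.1 = g ≫ f := h
  exact h' ▸ s.2

/-- The covering sieves. -/
def topology : GrothendieckTopology C where
  sieves X := {S | IsIso ((L P).map S.functorInclusion)}
  top_mem' X := by
    show IsIso _
    infer_instance
  pullback_stable' X Y S f hS := by
    obtain ⟨t, ht⟩ := isPullback_sieve S f
    have h := ht.map (L P)
    have : IsIso ((L P).map S.functorInclusion) := hS
    show IsIso _
    exact MorphismProperty.of_isPullback (P := MorphismProperty.isomorphisms _) h hS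
  transitive' X S hS R hR := by
    have : IsIso ((L P).map S.functorInclusion) := hS
    refine isIso_map_of_range P R.functorInclusion S.functorInclusion fun Y s => ?_
    have : IsIso ((L P).map (R.pullback s.1).functorInclusion) := hR s.2
    obtain ⟨t, ht⟩ := isPullback_sieve R s.1
    have e : inv ((L P).map (R.pullback s.1).functorInclusion) ≫ (L P).map t ≫ (L P).map R.functorInclusion =
        (L P).map (yoneda.map s.1) := by
      rw [IsIso.inv_comp_eq, ← Functor.map_comp, ← Functor.map_comp, ht.w]
    refine ⟨(P.ι.map (inv ((L P).map (R.pullback s.1).functorInclusion) ≫ (L P).map t)).app Y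
      ((η P (yoneda.obj Y.unop)).app Y (𝟙 _)), ?_⟩
    have h := congrArg (fun q => q.app Y (𝟙 _)) (η_nat P (yoneda.map s.1))
    rw [← e] at h
    simpa using h.symm

lemma mem_topology {X : C} (S : Sieve X) : S ∈ topology P X ↔ IsIso ((L P).map S.functorInclusion) := Iff.rfl

variable [P.IsClosedUnderIsomorphisms]

omit [P.IsClosedUnderIsomorphisms] in
theorem isSheaf_ι (G : P.FullSubcategory) : Presieve.IsSheaf (topology P) (P.ι.obj G) := by
  intro X S hS
  rw [Presieve.isSheafFor_iff_yonedaSheafCondition]
  intro f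
  have : IsIso ((L P).map S.functorInclusion) := hS
  let e := fun F => (reflectorAdjunction P.ι).homEquiv F G
  refine ⟨e _ (inv ((L P).map S.functorInclusion) ≫ (e _).symm f), ?_, fun g hg => ?_⟩
  · show S.functorInclusion ≫ e _ _ = f
    rw [← Adjunction.homEquiv_naturality_left, IsIso.hom_inv_id_assoc, Equiv.apply_symm_apply]
  · apply (e _).symm.injective
    rw [Equiv.symm_apply_apply, ← hg, Adjunction.homEquiv_naturality_left_symm, IsIso.inv_hom_id_assoc]

omit [P.IsClosedUnderIsomorphisms] in
/-- Sections with equal images in the reflection agree locally. -/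
theorem equalizerSieve_mem {F : Cᵒᵖ ⥤ Type u} {X : Cᵒᵖ} (a b : F.obj X) (h : (η P F).app X a = (η P F).app X b) :
    Presheaf.equalizerSieve (F := F) (X := X) a b ∈ topology P X.unop := by
  obtain ⟨X⟩ := X
  let E := Presheaf.equalizerSieve (F := F) (X := op X) a b
  let a' : yoneda.obj X ⟶ F := yonedaEquiv.symm a
  let b' : yoneda.obj X ⟶ F := yonedaEquiv.symm b
  have w : E.functorInclusion ≫ a' = E.functorInclusion ≫ b' := by
    ext Y g
    exact g.2
  have hlim : IsLimit (Fork.ofι E.functorInclusion w) := Fork.IsLimit.mk _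
    (fun s =>
      { app := fun Y => TypeCat.ofHom fun x => ⟨s.ι.app Y x, (congrArg (fun q : s.pt ⟶ F => q.app Y x) s.condition :)⟩
        naturality := fun Y Z g => by ext x; exact Subtype.ext (NatTrans.naturality_apply s.ι g x :) })
    (fun s => by ext Y x; rfl)
    (fun s m hm => by ext Y x; exact Subtype.ext (congrArg (fun q => q.app Y x) hm))
  have hlim' := isLimitForkMapOfIsLimit (L P) w hlim
  have he : (L P).map a' = (L P).map b' := by
    apply ((reflectorAdjunction P.ι).homEquiv _ _).injective
    rw [Adjunction.homEquiv_unit, Adjunction.homEquiv_unit, ← η_nat, ← η_nat]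
    apply yonedaEquiv.injective
    simpa [a', b', yonedaEquiv] using h
  exact isIso_limit_cone_parallelPair_of_eq he hlim'

omit [P.IsClosedUnderIsomorphisms] in
/-- Sections of the reflection come locally from sections. -/
theorem exists_local_preimage {F : Cᵒᵖ ⥤ Type u} {X : C} (c : (P.ι.obj ((L P).obj F)).obj (op X)) :
    ∃ S : Sieve X, S ∈ topology P X ∧ ∀ ⦃Y : C⦄ (f : Y ⟶ X), S f →
      ∃ x, (η P F).app (op Y) x = (P.ι.obj ((L P).obj F)).map f.op c := by
  let c' : yoneda.obj X ⟶ P.ι.obj ((L P).obj F) := yonedaEquiv.symm c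
  let S : Sieve X :=
    { arrows := fun Y f => ∃ x, (η P F).app (op Y) x = (P.ι.obj ((L P).obj F)).map f.op c
      downward_closed := by
        rintro Y Z f ⟨x, hx⟩ g
        exact ⟨F.map g.op x, by rw [NatTrans.naturality_apply, hx, op_comp, Functor.map_comp]; rfl⟩ }
  refine ⟨S, ?_, fun _ _ h => h⟩
  have hsq : IsPullback (pullback.fst (η P F) c') (pullback.snd (η P F) c') (η P F) c' := IsPullback.of_hasPullback _ _
  have : IsIso ((L P).map (pullback.snd (η P F) c')) :=
    MorphismProperty.of_isPullback (P := MorphismProperty.isomorphisms _)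
      (hsq.map (L P)) (isIso_map_η P F)
  refine isIso_map_of_range P S.functorInclusion (pullback.snd (η P F) c') fun Y p => ?_
  have hp : S.arrows ((pullback.snd (η P F) c').app Y p) :=
    ⟨(pullback.fst (η P F) c').app Y p, congrArg (fun q => q.app Y p) hsq.w⟩
  exact ⟨(η P S.functor).app Y ⟨_, hp⟩, (congrArg (fun q => q.app Y (⟨_, hp⟩ : S.functor.obj Y)) (η_nat P S.functorInclusion)).symm⟩

theorem prop_of_isSheaf {F : Cᵒᵖ ⥤ Type u} (hF : Presieve.IsSheaf (topology P) F) : P F := by
  have hG := isSheaf_ι P ((L P).obj F)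
  have inj : ∀ Y, Function.Injective ((η P F).app Y) := fun Y a b h =>
    (hF _ (equalizerSieve_mem P a b h)).isSeparatedFor.ext fun Z f hf => hf
  have bij : ∀ Y, Function.Bijective ((η P F).app Y) := fun Y => ⟨inj Y, fun c => by
    obtain ⟨X⟩ := Y
    obtain ⟨S, hS, hx⟩ := exists_local_preimage P c
    choose x hx using hx
    obtain ⟨x₀, hx₀, -⟩ := hF S hS (fun Y f hf => x f hf) (by
      intro Y₁ Y₂ Z g₁ g₂ f₁ f₂ h₁ h₂ w
      apply inj
      rw [NatTrans.naturality_apply, NatTrans.naturality_apply, hx, hx, ← Functor.map_comp_apply,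
        ← Functor.map_comp_apply, ← op_comp, ← op_comp, w])
    refine ⟨x₀, (hG S hS).isSeparatedFor.ext fun Y f hf => ?_⟩
    rw [← NatTrans.naturality_apply]
    exact (congrArg ((η P F).app (op Y)) (hx₀ f hf)).trans (hx f hf)⟩
  have : ∀ Y, IsIso ((η P F).app Y) := fun Y => (isIso_iff_bijective _).2 (bij Y)
  have : IsIso (η P F) := NatIso.isIso_of_isIso_app _
  exact P.prop_of_iso (asIso (η P F)).symm ((L P).obj F).property

theorem exists_topology : ∃ J : GrothendieckTopology C,
    (∀ (X : C) (S : Sieve X), S ∈ J X ↔ IsIso ((reflector P.ι).map S.functorInclusion)) ∧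
    ∀ F : Cᵒᵖ ⥤ Type u, P F ↔ Presieve.IsSheaf J F :=
  ⟨topology P, fun _ S => mem_topology P S, fun F => ⟨fun h => isSheaf_ι P ⟨F, h⟩, prop_of_isSheaf P⟩⟩

end Groth.Agent.ShfCatLib
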